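import Groth.Prelude.Def_Flat
import Mathlib.Topology.KrullDimension
import Mathlib.Topology.NoetherianSpace
import Mathlib.Topology.Semicontinuity.Basic

/-!
# Dimension of topological spaces: comparison with subspaces

Chains of irreducible closed subsets transported to closed or open subspaces; local dimension.
-/

set_option autoImplicit false

open TopologicalSpace Order Topology Set

namespace K284.TopDim

variable {X : Type*} [TopologicalSpace X]

theorem isIrreducible_preimage_val {Y Z : Set X} (hZ : IsIrreducible Z) (h : Z ⊆ Y) :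
    IsIrreducible (Subtype.val ⁻¹' Z : Set Y) := by
  refine ⟨?_, ?_⟩
  · obtain ⟨x, hx⟩ := hZ.nonempty
    exact ⟨⟨x, h hx⟩, hx⟩
  · rintro _ _ ⟨u, hu, rfl⟩ ⟨v, hv, rfl⟩ ⟨a, ha, hau⟩ ⟨b, hb, hbv⟩
    obtain ⟨c, hc, hcu, hcv⟩ := hZ.isPreirreducible u v hu hv ⟨a.1, ha, hau⟩ ⟨b.1, hb, hbv⟩
    exact ⟨⟨c, h hc⟩, hc, hcu, hcv⟩

/-- A chain of irreducible closed subsets whose top is contained in `Y` is a chain of `Y`. -/
theorem length_le_of_last_subset (p : LTSeries (IrreducibleCloseds X)) (Y : Set X)
    (h : (p.last : Set X) ⊆ Y) : (p.length : WithBot ℕ∞) ≤ topologicalKrullDim Y := by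
  have hsub : ∀ i, (p i : Set X) ⊆ Y := fun i =>
    (SetLike.coe_subset_coe.mpr (LTSeries.monotone p (Fin.le_last i))).trans h
  let q : LTSeries (IrreducibleCloseds Y) :=
    { length := p.length
      toFun := fun i => ⟨Subtype.val ⁻¹' (p i : Set X),
        isIrreducible_preimage_val (p i).isIrreducible (hsub i),
        (p i).isClosed.preimage continuous_subtype_val⟩
      step := fun i => by
        have h3 : p i.castSucc < p i.succ := p.step i
        refine lt_of_le_of_ne (show (Subtype.val ⁻¹' (p i.castSucc : Set X) : Set Y) ⊆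
          Subtype.val ⁻¹' (p i.succ : Set X) from fun x hx => h3.le hx) fun heq => h3.ne ?_
        apply SetLike.coe_injective
        have h4 : ∀ j, Subtype.val '' (Subtype.val ⁻¹' (p j : Set X) : Set Y) = (p j : Set X) := by
          intro j
          rw [Subtype.image_preimage_coe]
          exact Set.inter_eq_right.mpr (hsub j)
        have h5 : (Subtype.val ⁻¹' (p i.castSucc : Set X) : Set Y) =
            Subtype.val ⁻¹' (p i.succ : Set X) := congrArg (fun Z => (Z : Set Y)) heq
        rw [← h4, ← h4 i.succ, h5] }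
  exact le_iSup (fun p : LTSeries (IrreducibleCloseds Y) => (p.length : WithBot ℕ∞)) q

/-- A chain of irreducible closed subsets whose bottom meets the open set `U` is a chain of `U`. -/
theorem length_le_of_head_inter (p : LTSeries (IrreducibleCloseds X)) (U : Set X) (hU : IsOpen U)
    (h : ((p.head : Set X) ∩ U).Nonempty) : (p.length : WithBot ℕ∞) ≤ topologicalKrullDim U := by
  have hsub : ∀ i, ((p i : Set X) ∩ U).Nonempty := fun i =>
    h.mono (Set.inter_subset_inter_left _ (SetLike.coe_subset_coe.mpr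
      (LTSeries.monotone p (Fin.zero_le i))))
  let q : LTSeries (IrreducibleCloseds U) :=
    { length := p.length
      toFun := fun i => ⟨Subtype.val ⁻¹' (p i : Set X), by
        have h1 : IsIrreducible (p i : Set X) := (p i).isIrreducible
        exact ⟨by obtain ⟨x, hx, hxU⟩ := hsub i; exact ⟨⟨x, hxU⟩, hx⟩,
          h1.isPreirreducible.preimage hU.isOpenEmbedding_subtypeVal⟩,
        (p i).isClosed.preimage continuous_subtype_val⟩
      step := fun i => by
        have h3 : p i.castSucc < p i.succ := p.step i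
        refine lt_of_le_of_ne (show (Subtype.val ⁻¹' (p i.castSucc : Set X) : Set U) ⊆
          Subtype.val ⁻¹' (p i.succ : Set X) from fun x hx => h3.le hx) fun heq => h3.ne ?_
        apply SetLike.coe_injective
        have h4 : ∀ j, closure ((p j : Set X) ∩ U) = (p j : Set X) := by
          intro j
          refine Set.Subset.antisymm (closure_minimal Set.inter_subset_left (p j).isClosed) ?_
          exact subset_closure_inter_of_isPreirreducible_of_isOpen
            (p j).isIrreducible.isPreirreducible hU (hsub j)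
        have h5 : (Subtype.val ⁻¹' (p i.castSucc : Set X) : Set U) =
            Subtype.val ⁻¹' (p i.succ : Set X) := congrArg (fun Z => (Z : Set U)) heq
        have h6 : ∀ j, Subtype.val '' (Subtype.val ⁻¹' (p j : Set X) : Set U) =
            (p j : Set X) ∩ U := by
          intro j
          rw [Subtype.image_preimage_coe, Set.inter_comm]
        rw [← h4, ← h4 i.succ, ← h6, ← h6, h5] }
  exact le_iSup (fun p : LTSeries (IrreducibleCloseds U) => (p.length : WithBot ℕ∞)) q

theorem dim_le_of_forall (c : WithBot ℕ∞)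
    (h : ∀ p : LTSeries (IrreducibleCloseds X), (p.length : WithBot ℕ∞) ≤ c) :
    topologicalKrullDim X ≤ c := iSup_le h

theorem dim_mono {A B : Set X} (h : A ⊆ B) : topologicalKrullDim A ≤ topologicalKrullDim B :=
  (IsEmbedding.inclusion h).isInducing.topologicalKrullDim_le

theorem dim_nonneg [Nonempty X] : 0 ≤ topologicalKrullDim X := by
  obtain ⟨x⟩ := ‹Nonempty X›
  have : Nonempty (IrreducibleCloseds X) :=
    ⟨⟨closure {x}, isIrreducible_singleton.closure, isClosed_closure⟩⟩
  exact krullDim_nonneg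

theorem dim_univ_eq : topologicalKrullDim (Set.univ : Set X) = topologicalKrullDim X :=
  (IsHomeomorph.topologicalKrullDim_eq (Homeomorph.Set.univ X) (Homeomorph.Set.univ X).isHomeomorph)

/-! ### local dimension -/

theorem localDim_le (x : X) (U : Opens X) (hx : x ∈ U) :
    FlatMor.localDim X x ≤ topologicalKrullDim (U : Set X) :=
  iInf_le (fun U : {U : Opens X // x ∈ U} => topologicalKrullDim (U.1 : Set X)) ⟨U, hx⟩

theorem exists_localDim_eq (x : X) : ∃ U : Opens X, x ∈ U ∧
    topologicalKrullDim (U : Set X) = FlatMor.localDim X x := by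
  have : Nonempty {U : Opens X // x ∈ U} := ⟨⟨⊤, trivial⟩⟩
  obtain ⟨⟨U, hU⟩, h⟩ := ciInf_mem
    (fun U : {U : Opens X // x ∈ U} => topologicalKrullDim (U.1 : Set X))
  exact ⟨U, hU, h⟩

theorem localDim_le_dim (x : X) : FlatMor.localDim X x ≤ topologicalKrullDim X :=
  (localDim_le x ⊤ trivial).trans (topologicalKrullDim_subspace_le X _)

theorem localDim_nonneg (x : X) : 0 ≤ FlatMor.localDim X x := by
  obtain ⟨U, hU, h⟩ := exists_localDim_eq x
  rw [← h]
  have : Nonempty (U : Set X) := ⟨⟨x, hU⟩⟩
  exact dim_nonneg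

/-- a chain through `x` bounds the local dimension at `x` -/
theorem length_le_localDim (p : LTSeries (IrreducibleCloseds X)) (x : X) (hx : x ∈ p.head) :
    (p.length : WithBot ℕ∞) ≤ FlatMor.localDim X x :=
  le_iInf fun U => length_le_of_head_inter p U.1 U.1.isOpen ⟨x, hx, U.2⟩

theorem dim_eq_iSup_localDim : topologicalKrullDim X = ⨆ x : X, FlatMor.localDim X x := by
  refine le_antisymm (dim_le_of_forall _ fun p => ?_) (iSup_le fun x => localDim_le_dim x)
  obtain ⟨x, hx⟩ := p.head.isIrreducible.nonempty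
  exact (length_le_localDim p x hx).trans (le_iSup (fun x : X => FlatMor.localDim X x) x)

theorem dim_eq_iSup_localDim_closedPoints [NoetherianSpace X] [T0Space X] :
    topologicalKrullDim X = ⨆ x ∈ {x : X | IsClosed ({x} : Set X)}, FlatMor.localDim X x := by
  refine le_antisymm (dim_le_of_forall _ fun p => ?_)
    (iSup₂_le fun x _ => localDim_le_dim x)
  obtain ⟨x, hx, hx'⟩ := IsClosed.exists_closed_singleton p.head.isClosed
    p.head.isIrreducible.nonempty
  exact (length_le_localDim p x hx).trans
    (le_iSup₂ (f := fun (x : X) (_ : x ∈ {x : X | IsClosed ({x} : Set X)}) =>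
      FlatMor.localDim X x) x hx')

/-! ### dimension zero -/

theorem isMax_of_dim_le_zero (h : topologicalKrullDim X ≤ 0) (Z Z' : IrreducibleCloseds X)
    (hZ : Z ≤ Z') : Z = Z' := by
  have := krullDim_nonpos_iff_forall_isMax.mp h Z hZ
  exact le_antisymm hZ this

theorem finite_discrete_of_dim_le_zero [NoetherianSpace X] [T0Space X]
    (h : topologicalKrullDim X ≤ 0) : Finite X ∧ DiscreteTopology X := by
  have h1 : ∀ Z ∈ irreducibleComponents X, ∃ x : X, Z = {x} := by
    intro Z hZ
    have hirr : IsIrreducible Z := hZ.1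
    have hcl : IsClosed Z := isClosed_of_mem_irreducibleComponents Z hZ
    obtain ⟨x, hx, hx'⟩ := IsClosed.exists_closed_singleton hcl hirr.nonempty
    refine ⟨x, ?_⟩
    have := isMax_of_dim_le_zero h ⟨{x}, isIrreducible_singleton, hx'⟩ ⟨Z, hirr, hcl⟩
      (show ({x} : Set X) ⊆ Z from Set.singleton_subset_iff.mpr hx)
    exact (congrArg (fun W : IrreducibleCloseds X => (W : Set X)) this).symm
  have h2 : ∀ x : X, {x} ∈ irreducibleComponents X := by
    intro x
    obtain ⟨y, hy⟩ := h1 (irreducibleComponent x) (irreducibleComponent_mem_irreducibleComponents x)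
    have hxy : x ∈ irreducibleComponent x := mem_irreducibleComponent
    rw [hy] at hxy
    have hxy' : x = y := hxy
    rw [hxy', ← hy]
    exact irreducibleComponent_mem_irreducibleComponents x
  have hfin : Finite X := by
    have hf : (irreducibleComponents X).Finite := NoetherianSpace.finite_irreducibleComponents
    have : Finite (irreducibleComponents X) := hf
    exact Finite.of_injective (fun x : X => (⟨{x}, h2 x⟩ : irreducibleComponents X))
      fun x y hxy => Set.singleton_injective (congrArg Subtype.val hxy)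
  refine ⟨hfin, ?_⟩
  have : T1Space X := ⟨fun x => isClosed_of_mem_irreducibleComponents _ (h2 x)⟩
  infer_instance

theorem dim_eq_zero_iff [NoetherianSpace X] [T0Space X] [Nonempty X] :
    topologicalKrullDim X = 0 ↔ Finite X ∧ DiscreteTopology X := by
  refine ⟨fun h => finite_discrete_of_dim_le_zero h.le, fun h => ?_⟩
  have := h.2
  exact le_antisymm (topologicalKrullDim_zero_of_discreteTopology X) dim_nonneg

theorem isOpen_singleton_iff_localDim_eq_zero [NoetherianSpace X] [T0Space X] (x : X) :
    IsOpen ({x} : Set X) ↔ FlatMor.localDim X x = 0 := by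
  constructor
  · intro h
    refine le_antisymm ((localDim_le x ⟨{x}, h⟩ rfl).trans ?_) (localDim_nonneg x)
    have : DiscreteTopology (({x} : Set X)) := inferInstance
    exact topologicalKrullDim_zero_of_discreteTopology ({x} : Set X)
  · intro h
    obtain ⟨U, hU, hd⟩ := exists_localDim_eq x
    rw [h] at hd
    have : DiscreteTopology (U : Set X) := (finite_discrete_of_dim_le_zero hd.le).2
    have h1 : IsOpen ({⟨x, hU⟩} : Set (U : Set X)) := isOpen_discrete _
    have h2 := U.isOpen.isOpenMap_subtype_val _ h1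
    simpa using h2

theorem upperSemicontinuous_localDim :
    UpperSemicontinuous fun x : X => FlatMor.localDim X x := by
  intro x c hc
  obtain ⟨U, hU, hd⟩ := exists_localDim_eq x
  filter_upwards [U.isOpen.mem_nhds hU] with y hy
  exact (localDim_le y U hy).trans_lt (hd.le.trans_lt hc)

/-! ### coverings -/

theorem exists_subset_of_locallyFinite {ι : Type*} (Y : ι → Set X)
    (hY : ∀ i, IsClosed (Y i)) (hlf : LocallyFinite Y) (hcov : ⋃ i, Y i = Set.univ)
    (Z : Set X) (hZ : IsIrreducible Z) : ∃ i, Z ⊆ Y i := by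
  classical
  obtain ⟨x, hx⟩ := hZ.nonempty
  obtain ⟨V, hV, hfin⟩ := hlf x
  obtain ⟨U, hUV, hUo, hxU⟩ := mem_nhds_iff.mp hV
  have hfin' : {i | (Y i ∩ U).Nonempty}.Finite :=
    hfin.subset fun i hi => hi.mono (Set.inter_subset_inter_right _ hUV)
  have hne : (Z ∩ U).Nonempty := ⟨x, hx, hxU⟩
  have h1 : Z ⊆ closure (Z ∩ U) := subset_closure_inter_of_isPreirreducible_of_isOpen
    hZ.isPreirreducible hUo hne
  have h2 : Z ∩ U ⊆ ⋃ i ∈ hfin'.toFinset, Y i := by
    rintro z ⟨hz, hzU⟩
    have hz' : z ∈ ⋃ i, Y i := by rw [hcov]; trivial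
    obtain ⟨i, hi⟩ := Set.mem_iUnion.mp hz'
    exact Set.mem_biUnion (hfin'.mem_toFinset.mpr (⟨z, hi, hzU⟩ : (Y i ∩ U).Nonempty)) hi
  have h3 : IsClosed (⋃ i ∈ hfin'.toFinset, Y i) := isClosed_biUnion_finset fun i _ => hY i
  have h4 : Z ⊆ ⋃₀ ((hfin'.toFinset.image Y : Finset (Set X)) : Set (Set X)) := by
    refine (h1.trans (closure_minimal h2 h3)).trans ?_
    intro z hz
    simp only [Set.mem_iUnion] at hz
    obtain ⟨i, hi, hz⟩ := hz
    exact ⟨Y i, Finset.mem_coe.mpr (Finset.mem_image_of_mem Y hi), hz⟩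
  obtain ⟨T, hT, hZT⟩ := isIrreducible_iff_sUnion_isClosed.mp hZ (hfin'.toFinset.image Y)
    (fun z hz => by
      obtain ⟨i, -, rfl⟩ := Finset.mem_image.mp hz
      exact hY i) h4
  obtain ⟨i, -, rfl⟩ := Finset.mem_image.mp hT
  exact ⟨i, hZT⟩

theorem dim_eq_iSup_of_forall_irreducible {ι : Sort*} (Y : ι → Set X)
    (h : ∀ Z : Set X, IsIrreducible Z → ∃ i, Z ⊆ Y i) :
    topologicalKrullDim X = ⨆ i, topologicalKrullDim (Y i) := by
  refine le_antisymm (dim_le_of_forall _ fun p => ?_)
    (iSup_le fun i => topologicalKrullDim_subspace_le X (Y i))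
  obtain ⟨i, hi⟩ := h p.last p.last.isIrreducible
  exact (length_le_of_last_subset p (Y i) hi).trans
    (le_iSup (fun i => topologicalKrullDim (Y i)) i)

theorem dim_eq_iSup_of_locallyFinite {ι : Type*} (Y : ι → Set X)
    (hY : ∀ i, IsClosed (Y i)) (hlf : LocallyFinite Y) (hcov : ⋃ i, Y i = Set.univ) :
    topologicalKrullDim X = ⨆ i, topologicalKrullDim (Y i) :=
  dim_eq_iSup_of_forall_irreducible Y fun Z hZ => exists_subset_of_locallyFinite Y hY hlf hcov Z hZ

theorem dim_eq_iSup_of_finite {ι : Type*} [Finite ι] (Y : ι → Set X)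
    (hY : ∀ i, IsClosed (Y i)) (hcov : ⋃ i, Y i = Set.univ) :
    topologicalKrullDim X = ⨆ i, topologicalKrullDim (Y i) :=
  dim_eq_iSup_of_locallyFinite Y hY (locallyFinite_of_finite Y) hcov

theorem dim_eq_iSup_of_open_cover {ι : Type*} (U : ι → Opens X) (hcov : ⨆ i, U i = ⊤) :
    topologicalKrullDim X = ⨆ i, topologicalKrullDim (U i) := by
  refine le_antisymm (dim_le_of_forall _ fun p => ?_)
    (iSup_le fun i => topologicalKrullDim_subspace_le X (U i))
  obtain ⟨x, hx⟩ := p.head.isIrreducible.nonempty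
  have hxt : x ∈ ⨆ i, U i := by rw [hcov]; trivial
  obtain ⟨i, hi⟩ := Opens.mem_iSup.mp hxt
  exact (length_le_of_head_inter p (U i) (U i).isOpen ⟨x, hx, hi⟩).trans
    (le_iSup (fun i => topologicalKrullDim (U i)) i)

theorem dim_eq_iSup_irreducibleComponents :
    topologicalKrullDim X = ⨆ Y ∈ irreducibleComponents X, topologicalKrullDim ↥Y := by
  have h := dim_eq_iSup_of_forall_irreducible (X := X)
    (fun Y : irreducibleComponents X => (Y : Set X)) fun Z hZ => by
      obtain ⟨u, hu, hZu⟩ := exists_mem_irreducibleComponents_subset_of_isIrreducible Z hZ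
      exact ⟨⟨u, hu⟩, hZu⟩
  rw [h, iSup_subtype]

/-- dimension of an intersection with an open set, seen in two ways -/
theorem dim_preimage_val (A B : Set X) :
    topologicalKrullDim (Subtype.val ⁻¹' A : Set B) = topologicalKrullDim (A ∩ B : Set X) := by
  refine le_antisymm ?_ ?_
  · let g : (Subtype.val ⁻¹' A : Set B) → (A ∩ B : Set X) := fun b => ⟨b.1.1, b.2, b.1.2⟩
    have hg : IsInducing g := by
      refine IsInducing.of_comp (g := fun b : (A ∩ B : Set X) => (b.1 : X)) ?_ ?_ ?_
      · exact Continuous.subtype_mk (continuous_subtype_val.comp continuous_subtype_val) _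
      · exact continuous_subtype_val
      · exact (IsInducing.subtypeVal (t := B)).comp
          (IsInducing.subtypeVal (t := (Subtype.val ⁻¹' A : Set B)))
    exact hg.topologicalKrullDim_le
  · let g : (A ∩ B : Set X) → (Subtype.val ⁻¹' A : Set B) := fun b => ⟨⟨b.1, b.2.2⟩, b.2.1⟩
    have hg : IsInducing g := by
      refine IsInducing.of_comp (g := fun b : (Subtype.val ⁻¹' A : Set B) => (b.1.1 : X)) ?_ ?_ ?_
      · exact Continuous.subtype_mk (Continuous.subtype_mk continuous_subtype_val _) _
      · exact continuous_subtype_val.comp continuous_subtype_val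
      · exact IsInducing.subtypeVal
    exact hg.topologicalKrullDim_le

theorem localDim_subspace_le (Y : Set X) (x : X) (hx : x ∈ Y) :
    FlatMor.localDim Y ⟨x, hx⟩ ≤ FlatMor.localDim X x := by
  obtain ⟨U, hU, hd⟩ := exists_localDim_eq x
  rw [← hd]
  refine (localDim_le (X := Y) ⟨x, hx⟩ ⟨Subtype.val ⁻¹' (U : Set X),
    U.isOpen.preimage continuous_subtype_val⟩ hU).trans ?_
  change topologicalKrullDim (Subtype.val ⁻¹' (U : Set X) : Set Y) ≤ _
  rw [dim_preimage_val]
  exact dim_mono Set.inter_subset_left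

theorem localDim_eq_iSup_of_finite (x : X) {ι : Type*} [Finite ι] (Y : ι → Set X)
    (hY : ∀ i, IsClosed (Y i)) (hx : ∀ i, x ∈ Y i) (hcov : ⋃ i, Y i = Set.univ) :
    FlatMor.localDim X x = ⨆ i, FlatMor.localDim (Y i) ⟨x, hx i⟩ := by
  refine le_antisymm ?_ (iSup_le fun i => localDim_subspace_le (Y i) x (hx i))
  have h1 : ∀ i, ∃ U : Opens X, x ∈ U ∧
      topologicalKrullDim ((U : Set X) ∩ Y i : Set X) = FlatMor.localDim (Y i) ⟨x, hx i⟩ := by
    intro i
    obtain ⟨V, hV, hd⟩ := exists_localDim_eq (X := Y i) ⟨x, hx i⟩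
    obtain ⟨U, hU, hUV⟩ := isOpen_induced_iff.mp V.isOpen
    have hxU : (⟨x, hx i⟩ : Y i) ∈ (Subtype.val ⁻¹' U : Set (Y i)) := by rw [hUV]; exact hV
    refine ⟨⟨U, hU⟩, hxU, ?_⟩
    rw [← hd, ← hUV]
    exact (dim_preimage_val U (Y i)).symm
  choose U hxU hdU using h1
  let W : Set X := ⋂ i, (U i : Set X)
  have hW : IsOpen W := isOpen_iInter_of_finite fun i => (U i).isOpen
  refine (localDim_le x ⟨W, hW⟩ (Set.mem_iInter.mpr hxU)).trans ?_
  change topologicalKrullDim W ≤ _
  rw [dim_eq_iSup_of_finite (X := W) (fun i => (Subtype.val ⁻¹' (Y i) : Set W))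
    (fun i => (hY i).preimage continuous_subtype_val)
    (by rw [← Set.preimage_iUnion, hcov, Set.preimage_univ])]
  refine iSup_mono fun i => ?_
  rw [dim_preimage_val, ← hdU i]
  exact dim_mono fun z hz => ⟨Set.mem_iInter.mp hz.2 i, hz.1⟩

theorem dim_lt_of_isClosed_of_irreducible [IrreducibleSpace X] (hfin : topologicalKrullDim X ≠ ⊤)
    (Y : Set X) (hY : IsClosed Y) (hYX : Y ≠ Set.univ) :
    topologicalKrullDim ↥Y < topologicalKrullDim X := by
  have hsucc : ∀ n : ℕ, (n : WithBot ℕ∞) ≤ topologicalKrullDim Y →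
      ((n + 1 : ℕ) : WithBot ℕ∞) ≤ topologicalKrullDim X := by
    intro n h
    unfold topologicalKrullDim at h ⊢
    rw [le_krullDim_iff] at h ⊢
    obtain ⟨l, hl⟩ := h
    have hind : IsInducing (Subtype.val : Y → X) := IsInducing.subtypeVal
    let φ := IrreducibleCloseds.map (Subtype.val : Y → X) hind.continuous
    have hφ : StrictMono φ := IrreducibleCloseds.map_strictMono_of_isInducing hind
    let l' := l.map φ hφ
    let top : IrreducibleCloseds X :=
      ⟨Set.univ, IrreducibleSpace.isIrreducible_univ X, isClosed_univ⟩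
    have hlt : l'.last < top := by
      refine lt_of_le_of_ne (fun x _ => Set.mem_univ x) fun heq => hYX ?_
      have h1 : (φ l.last : Set X) = Set.univ := by
        have h2 : l'.last = φ l.last := rfl
        rw [← h2, heq]; rfl
      have h3 : (φ l.last : Set X) ⊆ Y := by
        change closure (Subtype.val '' (l.last : Set Y)) ⊆ Y
        exact closure_minimal (by rintro _ ⟨y, -, rfl⟩; exact y.2) hY
      rw [h1] at h3
      exact Set.univ_subset_iff.mp h3
    exact ⟨l'.snoc top hlt, by simp [l', hl]⟩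
  have hle : topologicalKrullDim Y ≤ topologicalKrullDim X := topologicalKrullDim_subspace_le X Y
  rcases hYd : topologicalKrullDim Y with _ | m
  · have h0 : (0 : WithBot ℕ∞) ≤ topologicalKrullDim X := by
      have : Nonempty X := IrreducibleSpace.toNonempty
      exact dim_nonneg
    exact lt_of_lt_of_le (WithBot.bot_lt_coe _) h0
  · rcases m with _ | m
    · exfalso
      apply hfin
      rw [hYd] at hle
      exact top_le_iff.mp hle
    · have h1 : ((m : ℕ) : WithBot ℕ∞) ≤ topologicalKrullDim Y := by rw [hYd]; exact le_rfl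
      have h2 := hsucc m h1
      refine lt_of_lt_of_le ?_ h2
      change ((m : ℕ∞) : WithBot ℕ∞) < (((m + 1 : ℕ) : ℕ∞) : WithBot ℕ∞)
      exact_mod_cast Nat.lt_succ_self m

end K284.TopDim
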